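import Mathlib
import Groth.Prelude.Def_StGerb
import Groth.Agent.Lib.Helper10.HomSheaf

/-!
# The band of a gerbe with commutative automorphism groups

For a category `𝒮` fibred in groupoids over `C`, `natSubgroup 𝒮 U` is the group of families of
automorphisms `α x f ∈ Aut(x)` for `x` an object of `𝒮` and `f : p x ⟶ U`, natural along all
morphisms of `𝒮`.  These form a presheaf of groups `bandPsh 𝒮`, which is a sheaf when `𝒮` is a
stack; when `𝒮` is a gerbe with commutative automorphism groups, evaluation at `(x, 𝟙)` is an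
isomorphism `bandPsh 𝒮 (p x) ≃ Aut(x)`.
-/

set_option autoImplicit false
set_option linter.style.haveILetI false
set_option backward.isDefEq.respectTransparency false
set_option backward.isDefEq.respectTransparency.types false

universe v u

open CategoryTheory Functor Opposite

namespace Groth.Agent.Lib.Helper28.GerbBand

open Groth.Agent.Lib.Helper10.Fib Groth.Agent.Lib.Helper10.Gerbe
  Groth.Agent.Lib.Helper10.HomSheaf

section Cat

variable {D : Type*} [Category D]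

lemma comm_mul {X Y : D} {a' b' : X ⟶ X} {a b : Y ⟶ Y} {φ : X ⟶ Y} (ha : a' ≫ φ = φ ≫ a)
    (hb : b' ≫ φ = φ ≫ b) : (b' ≫ a') ≫ φ = φ ≫ (b ≫ a) := by
  rw [Category.assoc, ha, ← Category.assoc, hb, Category.assoc]

lemma comm_inv {X Y : D} {a' ai' : X ⟶ X} {a ai : Y ⟶ Y} {φ : X ⟶ Y} (ha : a' ≫ φ = φ ≫ a)
    (h1 : ai' ≫ a' = 𝟙 X) (h2 : a ≫ ai = 𝟙 Y) : ai' ≫ φ = φ ≫ ai := by
  calc ai' ≫ φ = ai' ≫ φ ≫ (a ≫ ai) := by rw [h2, Category.comp_id]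
    _ = (ai' ≫ a') ≫ φ ≫ ai := by
      rw [← Category.assoc φ a ai, ← ha]; simp only [Category.assoc]
    _ = φ ≫ ai := by rw [h1, Category.id_comp]

end Cat

variable {C : Type u} [Category.{v} C] {𝒮 : BasedCategory.{v, max u v} C}

section Basic

variable {x : 𝒮.obj}

lemma hom_mul (a b : Gerb.AutO x) : (a * b).hom.1 = b.hom.1 ≫ a.hom.1 := rfl

lemma hom_one : (1 : Gerb.AutO x).hom.1 = 𝟙 x := rfl

lemma inv_comp (a : Gerb.AutO x) : (a⁻¹).hom.1 ≫ a.hom.1 = 𝟙 x :=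
  congrArg Subtype.val a.inv_hom_id

lemma comp_inv (a : Gerb.AutO x) : a.hom.1 ≫ (a⁻¹).hom.1 = 𝟙 x :=
  congrArg Subtype.val a.hom_inv_id

lemma autO_ext {a b : Gerb.AutO x} (h : a.hom.1 = b.hom.1) : a = b :=
  Iso.ext (Subtype.ext h)

instance isHomLift_autO (a : Gerb.AutO x) : 𝒮.p.IsHomLift (𝟙 (𝒮.p.obj x)) a.hom.1 := a.hom.2

/-- The automorphism of `x` in its fibre attached to an endomorphism over the identity. -/
noncomputable def mkAut (h : FibCat.IsFibGrpd 𝒮.p) (n : x ⟶ x)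
    (hn : 𝒮.p.IsHomLift (𝟙 (𝒮.p.obj x)) n) : Gerb.AutO x :=
  haveI := hn
  haveI : IsIso n := IsFibGrpd.isIso_of_isHomLift_id h (U := 𝒮.p.obj x) n
  { hom := ⟨n, hn⟩
    inv := ⟨inv n, inferInstance⟩
    hom_inv_id := Subtype.ext (IsIso.hom_inv_id n)
    inv_hom_id := Subtype.ext (IsIso.inv_hom_id n) }

@[simp] lemma mkAut_hom (h : FibCat.IsFibGrpd 𝒮.p) (n : x ⟶ x)
    (hn : 𝒮.p.IsHomLift (𝟙 (𝒮.p.obj x)) n) : (mkAut h n hn).hom.1 = n := rfl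

end Basic

lemma map_eq_of_isHomLift {V : C} {x₀ x : 𝒮.obj} (h : V ⟶ 𝒮.p.obj x) (χ : x₀ ⟶ x)
    [𝒮.p.IsHomLift h χ] : ∃ e : 𝒮.p.obj x₀ = V, 𝒮.p.map χ = eqToHom e ≫ h :=
  ⟨IsHomLift.domain_eq 𝒮.p h χ, by rw [IsHomLift.fac' 𝒮.p h χ]; simp⟩

/-- Separation for morphisms over an arbitrary arrow of the base. -/
theorem sep' (h𝒮 : FibCat.IsFibGrpd 𝒮.p) {U U' : C} (R : Sieve U)
    (hR : (Stk.resSieve R 𝒮).Faithful) {x x' : 𝒮.obj}
    (hx : 𝒮.p.obj x = U) (g : U ⟶ U') (n₁ n₂ : x ⟶ x') (hn₁ : 𝒮.p.IsHomLift g n₁)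
    (hn₂ : 𝒮.p.IsHomLift g n₂)
    (H : ∀ ⦃V : C⦄ (f : V ⟶ U), R f → ∀ (x₀ : 𝒮.obj) (χ : x₀ ⟶ x), 𝒮.p.IsHomLift f χ →
      χ ≫ n₁ = χ ≫ n₂) : n₁ = n₂ := by
  haveI := hn₁
  haveI := hn₂
  obtain ⟨m, hm1, hm2⟩ := exists_factor h𝒮 g n₁ n₂
  haveI := hm1
  have hm : m = 𝟙 x := by
    refine sep R h𝒮 hR hx m (𝟙 x) hm1 (IsHomLift.id hx) ?_
    intro V f hf x₀ χ hχ
    haveI := hχ
    haveI := IsFibGrpd.sc h𝒮 g n₂
    have e : (χ ≫ m) ≫ n₂ = (χ ≫ 𝟙 x) ≫ n₂ := by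
      rw [Category.assoc, hm2, Category.comp_id]; exact H f hf x₀ χ hχ
    have l1 : 𝒮.p.IsHomLift f (χ ≫ m) := inferInstance
    have l2 : 𝒮.p.IsHomLift f (χ ≫ 𝟙 x) := inferInstance
    exact IsStronglyCartesian.ext 𝒮.p g n₂ f e
  rw [← hm2, hm, Category.id_comp]

/-- Right cancellation in a category fibred in groupoids, for morphisms over the same arrow. -/
lemma cancel_right (h𝒮 : FibCat.IsFibGrpd 𝒮.p) {V U U' : C} (k : V ⟶ U) (g : U ⟶ U')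
    {a b c : 𝒮.obj} (m₁ m₂ : a ⟶ b) (n : b ⟶ c) [𝒮.p.IsHomLift g n] [𝒮.p.IsHomLift k m₁]
    [𝒮.p.IsHomLift k m₂] (e : m₁ ≫ n = m₂ ≫ n) : m₁ = m₂ := by
  haveI := IsFibGrpd.sc h𝒮 g n
  exact IsStronglyCartesian.ext 𝒮.p g n k e

variable (𝒮) in
/-- Natural families of automorphisms on objects with a map to `U`. -/
def natSubgroup (U : C) : Subgroup (∀ x : 𝒮.obj, (𝒮.p.obj x ⟶ U) → Gerb.AutO x) where
  carrier := {α | ∀ ⦃x' x : 𝒮.obj⦄ (φ : x' ⟶ x) (f : 𝒮.p.obj x ⟶ U),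
      (α x' (𝒮.p.map φ ≫ f)).hom.1 ≫ φ = φ ≫ (α x f).hom.1}
  mul_mem' := by
    intro α β hα hβ x' x φ f
    exact comm_mul (hα φ f) (hβ φ f)
  one_mem' := by
    intro x' x φ f
    show 𝟙 x' ≫ φ = φ ≫ 𝟙 x
    rw [Category.id_comp, Category.comp_id]
  inv_mem' := by
    intro α hα x' x φ f
    exact comm_inv (hα φ f) (inv_comp _) (comp_inv _)

lemma natSubgroup_nat {U : C} (α : natSubgroup 𝒮 U) ⦃x' x : 𝒮.obj⦄ (φ : x' ⟶ x)
    (f : 𝒮.p.obj x ⟶ U) :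
    (α.1 x' (𝒮.p.map φ ≫ f)).hom.1 ≫ φ = φ ≫ (α.1 x f).hom.1 := α.2 φ f

lemma natSubgroup_nat_id {U : C} (α : natSubgroup 𝒮 U) ⦃x' x : 𝒮.obj⦄ (φ : x' ⟶ x)
    (e : 𝒮.p.obj x = U) (f' : 𝒮.p.obj x' ⟶ U) (hf' : f' = 𝒮.p.map φ ≫ eqToHom e) :
    (α.1 x' f').hom.1 ≫ φ = φ ≫ (α.1 x (eqToHom e)).hom.1 := by
  subst hf'
  exact α.2 φ _

variable (𝒮) in
/-- Restriction of natural families. -/
def resHom {U V : C} (g : V ⟶ U) : natSubgroup 𝒮 U →* natSubgroup 𝒮 V where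
  toFun α := ⟨fun x f => α.1 x (f ≫ g), fun x' x φ f => by
    have h := natSubgroup_nat α φ (f ≫ g)
    rw [← Category.assoc] at h
    exact h⟩
  map_one' := rfl
  map_mul' := fun _ _ => rfl

@[simp] lemma resHom_apply {U V : C} (g : V ⟶ U) (α : natSubgroup 𝒮 U) (x : 𝒮.obj)
    (f : 𝒮.p.obj x ⟶ V) : (resHom 𝒮 g α).1 x f = α.1 x (f ≫ g) := rfl

variable (𝒮) in
/-- The presheaf of groups of natural families of automorphisms. -/
def bandPsh : Cᵒᵖ ⥤ GrpCat.{max u v} where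
  obj U := GrpCat.of (natSubgroup 𝒮 U.unop)
  map g := GrpCat.ofHom (resHom 𝒮 g.unop)
  map_id U := by
    apply GrpCat.hom_ext
    apply MonoidHom.ext
    intro α
    apply Subtype.ext
    funext x f
    exact congrArg (α.1 x) (Category.comp_id f)
  map_comp g h := by
    apply GrpCat.hom_ext
    apply MonoidHom.ext
    intro α
    apply Subtype.ext
    funext x f
    exact congrArg (α.1 x) (Category.assoc f h.unop g.unop).symm

end Groth.Agent.Lib.Helper28.GerbBand
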