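import Mathlib
import Groth.Agent.Lib.Helper28.GerbBand.Band

/-!
# Natural families of automorphisms are determined, and can be defined, locally
-/

set_option autoImplicit false
set_option linter.style.haveILetI false
set_option backward.isDefEq.respectTransparency false
set_option backward.isDefEq.respectTransparency.types false

universe v u

open CategoryTheory Functor Opposite

namespace Groth.Agent.Lib.Helper28.GerbBand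

open Groth.Agent.Lib.Helper10.Fib Groth.Agent.Lib.Helper10.Gerbe
  Groth.Agent.Lib.Helper10.HomSheaf

variable {C : Type u} [Category.{v} C] (J : GrothendieckTopology C)
  {𝒮 : BasedCategory.{v, max u v} C}

/-- Two natural families which agree on a locally covering class of pairs `(x, f)` are equal. -/
theorem ext_of_local (hst : Stk.IsStack J 𝒮) {U : C}
    (D : ∀ x : 𝒮.obj, (𝒮.p.obj x ⟶ U) → Prop)
    (cov : ∀ (x : 𝒮.obj) (f : 𝒮.p.obj x ⟶ U), ∃ R ∈ J (𝒮.p.obj x),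
      ∀ ⦃V : C⦄ (h : V ⟶ 𝒮.p.obj x), R h → ∀ (x₀ : 𝒮.obj) (χ : x₀ ⟶ x),
        𝒮.p.IsHomLift h χ → D x₀ (𝒮.p.map χ ≫ f))
    (α β : ∀ x : 𝒮.obj, (𝒮.p.obj x ⟶ U) → Gerb.AutO x) (hα : α ∈ natSubgroup 𝒮 U)
    (hβ : β ∈ natSubgroup 𝒮 U) (hD : ∀ x f, D x f → α x f = β x f) : α = β := by
  funext x f
  obtain ⟨R, hR, hcov⟩ := cov x f
  apply autO_ext
  refine sep R hst.1 (faithful_of_isStack R J hst hR) rfl _ _ (α x f).hom.2 (β x f).hom.2 ?_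
  intro V h hh x₀ χ hχ
  have hD0 := hD _ _ (hcov h hh x₀ χ hχ)
  rw [← hα χ f, ← hβ χ f, hD0]

/-- A natural family of automorphisms defined on a locally covering class of pairs `(x, f)`,
stable under precomposition, extends to a natural family. -/
theorem exists_of_local (hst : Stk.IsStack J 𝒮) {U : C}
    (D : ∀ x : 𝒮.obj, (𝒮.p.obj x ⟶ U) → Prop)
    (pre : ∀ ⦃x' x : 𝒮.obj⦄ (φ : x' ⟶ x) (f : 𝒮.p.obj x ⟶ U), D x f →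
      D x' (𝒮.p.map φ ≫ f))
    (cov : ∀ (x : 𝒮.obj) (f : 𝒮.p.obj x ⟶ U), ∃ R ∈ J (𝒮.p.obj x),
      ∀ ⦃V : C⦄ (h : V ⟶ 𝒮.p.obj x), R h → ∀ (x₀ : 𝒮.obj) (χ : x₀ ⟶ x),
        𝒮.p.IsHomLift h χ → D x₀ (𝒮.p.map χ ≫ f))
    (a0 : ∀ (x : 𝒮.obj) (f : 𝒮.p.obj x ⟶ U), D x f → Gerb.AutO x)
    (ha0 : ∀ ⦃x' x : 𝒮.obj⦄ (φ : x' ⟶ x) (f : 𝒮.p.obj x ⟶ U) (hD : D x f),
      (a0 x' (𝒮.p.map φ ≫ f) (pre φ f hD)).hom.1 ≫ φ = φ ≫ (a0 x f hD).hom.1) :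
    ∃ α ∈ natSubgroup 𝒮 U, ∀ (x : 𝒮.obj) (f : 𝒮.p.obj x ⟶ U) (hD : D x f),
      α x f = a0 x f hD := by
  have hfg : FibCat.IsFibGrpd 𝒮.p := hst.1
  have a0_congr : ∀ (x : 𝒮.obj) (f f' : 𝒮.p.obj x ⟶ U) (e : f = f') (hD : D x f)
      (hD' : D x f'), a0 x f hD = a0 x f' hD' := by
    intro x f f' e hD hD'
    subst e
    rfl
  -- Step B: local construction
  have stepB : ∀ (y : 𝒮.obj) (f : 𝒮.p.obj y ⟶ U), ∃ n : y ⟶ y,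
      𝒮.p.IsHomLift (𝟙 (𝒮.p.obj y)) n ∧ ∃ R ∈ J (𝒮.p.obj y),
        ∀ ⦃V : C⦄ (h : V ⟶ 𝒮.p.obj y), R h → ∀ (x₀ : 𝒮.obj) (χ : x₀ ⟶ y),
          𝒮.p.IsHomLift h χ → ∃ hD : D x₀ (𝒮.p.map χ ≫ f),
            χ ≫ n = (a0 x₀ (𝒮.p.map χ ≫ f) hD).hom.1 ≫ χ := by
    intro y f
    obtain ⟨R, hR, hcov⟩ := cov y f
    obtain ⟨n, hn1, hn2⟩ := glue R hfg (full_of_isStack R J hst hR) (x := y) (x' := y) rfl rfl
      (fun x₀ χ μ => ∃ hD : D x₀ (𝒮.p.map χ ≫ f),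
        μ = (a0 x₀ (𝒮.p.map χ ≫ f) hD).hom.1 ≫ χ)
      (by
        intro V h hh x₀ χ hχ
        haveI := hχ
        refine ⟨(a0 x₀ _ (hcov h hh x₀ χ hχ)).hom.1 ≫ χ, ?_, hcov h hh x₀ χ hχ, rfl⟩
        have dom : 𝒮.p.obj x₀ = V := IsHomLift.domain_eq 𝒮.p h χ
        subst dom
        infer_instance)
      (by
        rintro V h hh x₀ χ μ μ' - - - ⟨hD, e⟩ ⟨hD', e'⟩
        rw [e, e'])
      (by
        rintro x₀ x₁ χ μ κ ⟨hD, e⟩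
        have e1 : 𝒮.p.map κ ≫ 𝒮.p.map χ ≫ f = 𝒮.p.map (κ ≫ χ) ≫ f := by
          rw [Functor.map_comp, Category.assoc]
        have hD1 : D x₁ (𝒮.p.map κ ≫ 𝒮.p.map χ ≫ f) := pre κ _ hD
        have hD' : D x₁ (𝒮.p.map (κ ≫ χ) ≫ f) := e1 ▸ hD1
        refine ⟨hD', ?_⟩
        rw [e, ← a0_congr x₁ _ _ e1 hD1 hD', ← Category.assoc, ← ha0 κ _ hD, Category.assoc])
    exact ⟨n, hn1, R, hR, hn2⟩
  choose n hn1 hn2 using stepB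
  refine ⟨fun y f => mkAut hfg (n y f) (hn1 y f), ?_, ?_⟩
  · -- naturality
    intro y' y φ f
    show n y' (𝒮.p.map φ ≫ f) ≫ φ = φ ≫ n y f
    obtain ⟨R, hR, hRn⟩ := hn2 y f
    obtain ⟨R', hR', hRn'⟩ := hn2 y' (𝒮.p.map φ ≫ f)
    haveI := hn1 y f
    haveI := hn1 y' (𝒮.p.map φ ≫ f)
    have hS : R' ⊓ R.pullback (𝒮.p.map φ) ∈ J (𝒮.p.obj y') :=
      J.intersection_covering hR' (J.pullback_stable _ hR)
    refine sep' hfg _ (faithful_of_isStack _ J hst hS) rfl (𝒮.p.map φ) _ _ inferInstance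
      inferInstance ?_
    rintro V h ⟨hh1, hh2⟩ x₀ χ hχ
    haveI := hχ
    obtain ⟨hD1, e1⟩ := hRn' h hh1 x₀ χ hχ
    have l : 𝒮.p.IsHomLift (h ≫ 𝒮.p.map φ) (χ ≫ φ) := inferInstance
    obtain ⟨hD2, e2⟩ := hRn (h ≫ 𝒮.p.map φ) hh2 x₀ (χ ≫ φ) l
    have e3 : 𝒮.p.map χ ≫ 𝒮.p.map φ ≫ f = 𝒮.p.map (χ ≫ φ) ≫ f := by
      rw [Functor.map_comp, Category.assoc]
    calc χ ≫ n y' (𝒮.p.map φ ≫ f) ≫ φ
        = (χ ≫ n y' (𝒮.p.map φ ≫ f)) ≫ φ := (Category.assoc _ _ _).symm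
      _ = ((a0 x₀ _ hD1).hom.1 ≫ χ) ≫ φ := by rw [e1]
      _ = (a0 x₀ _ hD2).hom.1 ≫ χ ≫ φ := by
          rw [Category.assoc, a0_congr x₀ _ _ e3 hD1 hD2]
      _ = (χ ≫ φ) ≫ n y f := e2.symm
      _ = χ ≫ φ ≫ n y f := Category.assoc _ _ _
  · -- extension
    intro y f hD
    apply autO_ext
    show n y f = (a0 y f hD).hom.1
    obtain ⟨R, hR, hRn⟩ := hn2 y f
    refine sep R hfg (faithful_of_isStack R J hst hR) rfl _ _ (hn1 y f) (a0 y f hD).hom.2 ?_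
    intro V h hh x₀ χ hχ
    obtain ⟨hD1, e1⟩ := hRn h hh x₀ χ hχ
    exact e1.trans (ha0 χ f hD)

end Groth.Agent.Lib.Helper28.GerbBand
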