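import Mathlib
import Groth.Agent.Lib.Helper28.GerbBand.Glue

/-!
# The band of an abelian gerbe: sheaf condition and the banding
-/

set_option autoImplicit false
set_option linter.style.haveILetI false
set_option backward.isDefEq.respectTransparency false
set_option backward.isDefEq.respectTransparency.types false

universe v u

open CategoryTheory Functor Opposite

namespace Groth.Agent.Lib.Helper28.GerbBand

open Groth.Agent.Lib.Helper10.Fib Groth.Agent.Lib.Helper10.Gerbe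
  Groth.Agent.Lib.Helper10.HomSheaf

variable {C : Type u} [Category.{v} C] (J : GrothendieckTopology C)
  {𝒮 : BasedCategory.{v, max u v} C}

/-- Sections of the underlying presheaf of types as natural families. -/
def toFam {V : C} (t : (bandPsh 𝒮 ⋙ forget GrpCat.{max u v}).obj (op V)) : natSubgroup 𝒮 V := t

/-- Natural families as sections of the underlying presheaf of types. -/
def ofFam {V : C} (t : natSubgroup 𝒮 V) : (bandPsh 𝒮 ⋙ forget GrpCat.{max u v}).obj (op V) := t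

lemma toFam_map {U V : C} (g : V ⟶ U) (t : (bandPsh 𝒮 ⋙ forget GrpCat.{max u v}).obj (op U))
    (x : 𝒮.obj) (k : 𝒮.p.obj x ⟶ V) :
    (toFam ((bandPsh 𝒮 ⋙ forget GrpCat.{max u v}).map g.op t)).1 x k = (toFam t).1 x (k ≫ g) :=
  rfl

lemma toFam_inj {V : C} {t t' : (bandPsh 𝒮 ⋙ forget GrpCat.{max u v}).obj (op V)}
    (h : (toFam t).1 = (toFam t').1) : t = t' := Subtype.ext h

theorem isSheaf_bandPsh (hst : Stk.IsStack J 𝒮) : Presheaf.IsSheaf J (bandPsh 𝒮) := by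
  rw [Presheaf.isSheaf_iff_isSheaf_forget J (bandPsh 𝒮) (forget GrpCat.{max u v}),
    isSheaf_iff_isSheaf_of_type]
  intro U R hR s hs
  have hs' := (Presieve.compatible_iff_sieveCompatible s).1 hs
  have hcompat : ∀ ⦃Y Z : C⦄ (f : Y ⟶ U) (g : Z ⟶ Y) (hf : R f) (x : 𝒮.obj)
      (k : 𝒮.p.obj x ⟶ Z),
      (toFam (s (g ≫ f) (R.downward_closed hf g))).1 x k = (toFam (s f hf)).1 x (k ≫ g) := by
    intro Y Z f g hf x k
    rw [hs' f g hf]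
    rfl
  have cov : ∀ (x : 𝒮.obj) (f : 𝒮.p.obj x ⟶ U), ∃ R' ∈ J (𝒮.p.obj x),
      ∀ ⦃V : C⦄ (h : V ⟶ 𝒮.p.obj x), R' h → ∀ (x₀ : 𝒮.obj) (χ : x₀ ⟶ x),
        𝒮.p.IsHomLift h χ → R (𝒮.p.map χ ≫ f) := by
    intro x f
    refine ⟨R.pullback f, J.pullback_stable f hR, ?_⟩
    intro V h hh x₀ χ hχ
    haveI := hχ
    obtain ⟨e, he⟩ := map_eq_of_isHomLift h χ
    rw [he, Category.assoc]
    exact R.downward_closed hh _
  obtain ⟨α, hα, hαD⟩ := exists_of_local J hst (U := U) (fun x f => R f)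
    (fun x' x φ f hD => R.downward_closed hD (𝒮.p.map φ)) cov
    (fun x f hD => (toFam (s f hD)).1 x (𝟙 _))
    (by
      intro x' x φ f hD
      show ((toFam (s (𝒮.p.map φ ≫ f) (R.downward_closed hD (𝒮.p.map φ)))).1 x' (𝟙 _)).hom.1 ≫ φ
        = φ ≫ ((toFam (s f hD)).1 x (𝟙 _)).hom.1
      rw [hcompat f (𝒮.p.map φ) hD x' (𝟙 _)]
      have h := natSubgroup_nat (toFam (s f hD)) φ (𝟙 _)
      rw [Category.comp_id] at h
      rw [Category.id_comp]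
      exact h)
  refine ⟨ofFam ⟨α, hα⟩, ?_, ?_⟩
  · intro Y f hf
    apply toFam_inj
    funext x k
    rw [toFam_map]
    show α x (k ≫ f) = _
    rw [hαD x (k ≫ f) (R.downward_closed hf k), hcompat f k hf x (𝟙 _), Category.id_comp]
  · intro t' ht'
    apply toFam_inj
    show (toFam t').1 = α
    refine ext_of_local J hst (fun x f => R f) cov _ _ (toFam t').2 hα ?_
    intro x f hD
    rw [hαD x f hD]
    have h1 := ht' f hD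
    have h2 : (toFam ((bandPsh 𝒮 ⋙ forget GrpCat.{max u v}).map f.op t')).1 x (𝟙 _) =
        (toFam (s f hD)).1 x (𝟙 _) := by rw [h1]
    rw [toFam_map, Category.id_comp] at h2
    exact h2

section Key

variable (h𝒮 : Gerb.IsGerbe J 𝒮) (x₁ : 𝒮.obj)

/-- The pairs `(y, f)` for which `y` maps to `x₁` over `f`. -/
def DK (x₁ : 𝒮.obj) (y : 𝒮.obj) (f : 𝒮.p.obj y ⟶ 𝒮.p.obj x₁) : Prop :=
  ∃ ψ : y ⟶ x₁, 𝒮.p.IsHomLift f ψ

lemma DK_pre ⦃y' y : 𝒮.obj⦄ (φ : y' ⟶ y) (f : 𝒮.p.obj y ⟶ 𝒮.p.obj x₁) (hD : DK x₁ y f) :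
    DK x₁ y' (𝒮.p.map φ ≫ f) := by
  obtain ⟨ψ, hψ⟩ := hD
  haveI := hψ
  exact ⟨φ ≫ ψ, inferInstance⟩

include h𝒮 in
lemma DK_cov (y : 𝒮.obj) (f : 𝒮.p.obj y ⟶ 𝒮.p.obj x₁) : ∃ R ∈ J (𝒮.p.obj y),
    ∀ ⦃V : C⦄ (h : V ⟶ 𝒮.p.obj y), R h → ∀ (y₀ : 𝒮.obj) (χ : y₀ ⟶ y),
      𝒮.p.IsHomLift h χ → DK x₁ y₀ (𝒮.p.map χ ≫ f) := by
  have hfg : FibCat.IsFibGrpd 𝒮.p := h𝒮.1.1
  obtain ⟨xf, ψf, hψf⟩ := hfg.exists_lift (x := x₁) f
  haveI := hψf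
  have e : 𝒮.p.obj xf = 𝒮.p.obj y := IsHomLift.domain_eq 𝒮.p f ψf
  have hb : (FibCat.selfOver C).p.IsHomLift (𝟙 (𝒮.p.obj y))
      (show (FibCat.toSelf 𝒮).obj y ⟶ (FibCat.toSelf 𝒮).obj xf from eqToHom e.symm) :=
    IsHomLift.of_fac' (𝟭 C) (𝟙 _) (eqToHom e.symm) rfl e (by simp)
  obtain ⟨R, hR, hloc⟩ := h𝒮.2.2 y xf _ hb
  refine ⟨R, hR, ?_⟩
  intro V h hh y₀ χ hχ
  haveI := hχ
  obtain ⟨x₀, φ₀, ψ₀, hφ₀, hψ₀, -⟩ := hloc h hh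
  haveI := hφ₀
  haveI := hψ₀
  obtain ⟨θ, hθ1, hθ2⟩ := exists_factor hfg h χ φ₀
  haveI := hθ1
  obtain ⟨e', he'⟩ := map_eq_of_isHomLift h χ
  have l1 : 𝒮.p.IsHomLift (h ≫ f) (ψ₀ ≫ ψf) := inferInstance
  have l2 : 𝒮.p.IsHomLift (h ≫ f) (θ ≫ ψ₀ ≫ ψf) := inferInstance
  refine ⟨θ ≫ ψ₀ ≫ ψf, ?_⟩
  rw [he', Category.assoc]
  infer_instance

variable (hcomm : ∀ (x : 𝒮.obj) (α β : Gerb.AutO x), α * β = β * α) (a : Gerb.AutO x₁)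

/-- The relation characterising the transport of `a` to `y` along maps `y ⟶ x₁` over `f`. -/
def RelK {x₁ : 𝒮.obj} (a : Gerb.AutO x₁) (y : 𝒮.obj) (f : 𝒮.p.obj y ⟶ 𝒮.p.obj x₁)
    (b : Gerb.AutO y) : Prop :=
  ∀ ψ : y ⟶ x₁, 𝒮.p.IsHomLift f ψ → b.hom.1 ≫ ψ = ψ ≫ a.hom.1

include hcomm in
lemma exists_relK (hfg : FibCat.IsFibGrpd 𝒮.p) (y : 𝒮.obj) (f : 𝒮.p.obj y ⟶ 𝒮.p.obj x₁)
    (hD : DK x₁ y f) : ∃ b : Gerb.AutO y, RelK a y f b := by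
  obtain ⟨ψ, hψ⟩ := hD
  haveI := hψ
  have l : 𝒮.p.IsHomLift f (ψ ≫ a.hom.1) := inferInstance
  obtain ⟨θ, hθ1, hθ2⟩ := exists_factor hfg f (ψ ≫ a.hom.1) ψ
  refine ⟨mkAut hfg θ hθ1, ?_⟩
  intro ψ' hψ'
  haveI := hψ'
  obtain ⟨τ, hτ1, hτ2⟩ := exists_factor hfg f ψ' ψ
  have hc := congrArg (fun c : Gerb.AutO y => c.hom.1) (hcomm y (mkAut hfg θ hθ1) (mkAut hfg τ hτ1))
  have hc' : τ ≫ θ = θ ≫ τ := hc
  show θ ≫ ψ' = ψ' ≫ a.hom.1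
  rw [← hτ2, ← Category.assoc, ← hc', Category.assoc, hθ2, Category.assoc]

lemma relK_unique (hfg : FibCat.IsFibGrpd 𝒮.p) (y : 𝒮.obj) (f : 𝒮.p.obj y ⟶ 𝒮.p.obj x₁)
    (hD : DK x₁ y f) (b b' : Gerb.AutO y) (hb : RelK a y f b) (hb' : RelK a y f b') :
    b = b' := by
  obtain ⟨ψ, hψ⟩ := hD
  haveI := hψ
  apply autO_ext
  exact cancel_right hfg (𝟙 _) f _ _ ψ ((hb ψ hψ).trans (hb' ψ hψ).symm)

include h𝒮 hcomm in
theorem eval_surjective (a : Gerb.AutO x₁) :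
    ∃ α : natSubgroup 𝒮 (𝒮.p.obj x₁), α.1 x₁ (𝟙 _) = a := by
  have hfg : FibCat.IsFibGrpd 𝒮.p := h𝒮.1.1
  choose a0 ha0 using exists_relK x₁ hcomm a hfg
  obtain ⟨α, hα, hαD⟩ := exists_of_local J h𝒮.1 (U := 𝒮.p.obj x₁) (DK x₁) (DK_pre x₁)
    (DK_cov J h𝒮 x₁) a0
    (by
      intro y' y φ f hD
      obtain ⟨ψ, hψ⟩ := hD
      haveI := hψ
      have l : 𝒮.p.IsHomLift (𝒮.p.map φ ≫ f) (φ ≫ ψ) := inferInstance
      have r1 := ha0 y' (𝒮.p.map φ ≫ f) (DK_pre x₁ φ f ⟨ψ, hψ⟩) (φ ≫ ψ) l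
      have r2 := ha0 y f ⟨ψ, hψ⟩ ψ hψ
      have l1 : 𝒮.p.IsHomLift (𝒮.p.map φ)
          ((a0 y' (𝒮.p.map φ ≫ f) (DK_pre x₁ φ f ⟨ψ, hψ⟩)).hom.1 ≫ φ) := inferInstance
      have l2 : 𝒮.p.IsHomLift (𝒮.p.map φ) (φ ≫ (a0 y f ⟨ψ, hψ⟩).hom.1) := inferInstance
      refine cancel_right hfg (𝒮.p.map φ) f _ _ ψ ?_
      simp only [Category.assoc]
      rw [r1, r2, Category.assoc])
  refine ⟨⟨α, hα⟩, ?_⟩
  have hD₁ : DK x₁ x₁ (𝟙 _) := ⟨𝟙 x₁, inferInstance⟩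
  show α x₁ (𝟙 _) = a
  rw [hαD x₁ (𝟙 _) hD₁]
  apply autO_ext
  have := ha0 x₁ (𝟙 _) hD₁ (𝟙 x₁) inferInstance
  rw [Category.comp_id, Category.id_comp] at this
  exact this

include h𝒮 in
theorem eval_injective (α β : natSubgroup 𝒮 (𝒮.p.obj x₁))
    (h : α.1 x₁ (𝟙 _) = β.1 x₁ (𝟙 _)) : α = β := by
  have hfg : FibCat.IsFibGrpd 𝒮.p := h𝒮.1.1
  apply Subtype.ext
  refine ext_of_local J h𝒮.1 (DK x₁) (DK_cov J h𝒮 x₁) _ _ α.2 β.2 ?_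
  rintro y f ⟨ψ, hψ⟩
  haveI := hψ
  have ef : 𝒮.p.map ψ ≫ 𝟙 _ = f := by
    rw [Category.comp_id]; exact (IsHomLift.eq_of_isHomLift 𝒮.p f ψ).symm
  have h1 := natSubgroup_nat α ψ (𝟙 _)
  have h2 := natSubgroup_nat β ψ (𝟙 _)
  rw [ef] at h1 h2
  apply autO_ext
  refine cancel_right hfg (𝟙 _) f _ _ ψ ?_
  rw [h1, h2, h]

end Key

/-- Evaluation of natural families at `(x, 𝟙)`. -/
def evalHom (x : 𝒮.obj) : natSubgroup 𝒮 (𝒮.p.obj x) →* Gerb.AutO x where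
  toFun α := α.1 x (𝟙 _)
  map_one' := rfl
  map_mul' := fun _ _ => rfl

theorem main (𝒮 : BasedCategory.{v, max u v} C) (h𝒮 : Gerb.IsGerbe J 𝒮)
    (hcomm : ∀ (x : 𝒮.obj) (α β : Gerb.AutO x), α * β = β * α) :
    ∃ G : Sheaf J GrpCat.{max u v}, (∀ (U : C) (a b : G.obj.obj (op U)), a * b = b * a) ∧
      Nonempty (Gerb.Banding 𝒮 G.obj) := by
  refine ⟨⟨bandPsh 𝒮, isSheaf_bandPsh J h𝒮.1⟩, ?_, ⟨?_⟩⟩
  · intro U a b
    exact Subtype.ext (funext fun x => funext fun f => hcomm x _ _)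
  · refine
      { iso := fun x => MulEquiv.ofBijective (evalHom x)
          ⟨fun α β h => eval_injective J h𝒮 x α β h, fun a => eval_surjective J h𝒮 x hcomm a⟩
        natural := ?_ }
    intro x' x φ a
    have h := natSubgroup_nat (U := 𝒮.p.obj x) a φ (𝟙 _)
    rw [Category.comp_id] at h
    show ((a : natSubgroup 𝒮 (𝒮.p.obj x)).1 x' (𝟙 _ ≫ 𝒮.p.map φ)).hom.1 ≫ φ = _
    rw [Category.id_comp]
    exact h

end Groth.Agent.Lib.Helper28.GerbBand
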